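import Mathlib.LinearAlgebra.ExteriorPower.Basis
import Mathlib.LinearAlgebra.ExteriorPower.Basic
import Mathlib.RingTheory.Flat.EquationalCriterion

/-!
# Exterior powers of flat modules are flat
-/

universe u v

namespace Groth.Agent.KaehlerFlat27

open Function

variable {R : Type u} [CommRing R] {M F : Type v} [AddCommGroup M] [Module R M]
  [AddCommGroup F] [Module R F] (n : ℕ) (π : F →ₗ[R] M)

/-- The span of the wedges with one factor in the kernel of `π`. -/
def wedgeKer : Submodule R (⋀[R]^n F) :=
  Submodule.span R (exteriorPower.ιMulti R n '' {v : Fin n → F | ∃ i, π (v i) = 0})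

theorem mk_congr {v w : Fin n → F} (h : ∀ i, π (v i) = π (w i)) :
    (wedgeKer n π).mkQ (exteriorPower.ιMulti R n v) = (wedgeKer n π).mkQ (exteriorPower.ιMulti R n w) := by
  classical
  suffices H : ∀ s : Finset (Fin n), (wedgeKer n π).mkQ (exteriorPower.ιMulti R n v) =
      (wedgeKer n π).mkQ (exteriorPower.ιMulti R n (fun i => if i ∈ s then w i else v i)) by
    simpa using H Finset.univ
  intro s
  induction s using Finset.induction_on with
  | empty => simp
  | @insert a s ha ih =>
    set g : Fin n → F := fun i => if i ∈ s then w i else v i with hg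
    have hga : g a = v a := by simp [hg, ha]
    have hnew : (fun i => if i ∈ insert a s then w i else v i) = update g a (w a) := by
      funext i
      by_cases hi : i = a
      · subst hi; simp
      · simp [hg, hi]
    have hold : g = update g a (v a) := by rw [← hga, update_eq_self]
    rw [hnew, ih, hold, update_idem, ← sub_eq_zero, ← map_sub, ← AlternatingMap.map_update_sub,
      Submodule.mkQ_apply, Submodule.Quotient.mk_eq_zero]
    refine Submodule.subset_span ⟨_, ⟨a, ?_⟩, rfl⟩
    simp [h a]

theorem ker_map_le (hπ : Surjective π) : LinearMap.ker (exteriorPower.map n π) ≤ wedgeKer n π := by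
  classical
  choose sec hsec using hπ
  let ψ : M [⋀^Fin n]→ₗ[R] ((⋀[R]^n F) ⧸ wedgeKer n π) :=
    { toFun := fun m => (wedgeKer n π).mkQ (exteriorPower.ιMulti R n (sec ∘ m))
      map_update_add' := fun {inst} m i x y => by
        have e : ∀ z, (wedgeKer n π).mkQ (exteriorPower.ιMulti R n (sec ∘ @update _ _ inst m i z)) =
            (wedgeKer n π).mkQ (exteriorPower.ιMulti R n (update (sec ∘ m) i (sec z))) := fun z => by
          rw [comp_update]
        rw [e, e, e, ← map_add, ← AlternatingMap.map_update_add]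
        refine mk_congr n π fun j => ?_
        by_cases hj : j = i
        · subst hj; simp [hsec]
        · simp [hj]
      map_update_smul' := fun {inst} m i r x => by
        have e : ∀ z, (wedgeKer n π).mkQ (exteriorPower.ιMulti R n (sec ∘ @update _ _ inst m i z)) =
            (wedgeKer n π).mkQ (exteriorPower.ιMulti R n (update (sec ∘ m) i (sec z))) := fun z => by
          rw [comp_update]
        rw [e, e, ← map_smul, ← AlternatingMap.map_update_smul]
        refine mk_congr n π fun j => ?_
        by_cases hj : j = i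
        · subst hj; simp [hsec]
        · simp [hj]
      map_eq_zero_of_eq' := fun m i j hm hij => by
        show (wedgeKer n π).mkQ (exteriorPower.ιMulti R n (sec ∘ m)) = 0
        rw [(exteriorPower.ιMulti R n).map_eq_zero_of_eq _ (show (sec ∘ m) i = (sec ∘ m) j from congrArg sec hm) hij,
          map_zero] }
  have key : (exteriorPower.alternatingMapLinearEquiv ψ).comp (exteriorPower.map n π) =
      (wedgeKer n π).mkQ := by
    refine exteriorPower.linearMap_ext (AlternatingMap.ext fun v => ?_)
    show exteriorPower.alternatingMapLinearEquiv ψ (exteriorPower.map n π (exteriorPower.ιMulti R n v)) = _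
    rw [exteriorPower.map_apply_ιMulti, exteriorPower.alternatingMapLinearEquiv_apply_ιMulti]
    exact mk_congr n π fun i => hsec _
  intro x hx
  have h := LinearMap.congr_fun key x
  rw [LinearMap.comp_apply, LinearMap.mem_ker.1 hx, map_zero] at h
  exact (Submodule.Quotient.mk_eq_zero _).1 h.symm

/-- Exterior powers of a flat module are flat. -/
theorem flat_exteriorPower {M : Type u} [AddCommGroup M] [Module R M] [Module.Flat R M] (n : ℕ) :
    Module.Flat R (⋀[R]^n M) := by
  classical
  refine Module.Flat.of_forall_exists_factorization fun {l f x} hx => ?_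
  let π : (M →₀ R) →ₗ[R] M := Finsupp.linearCombination R id
  have hπ : Surjective π := fun m => ⟨Finsupp.single m 1, by simp [π]⟩
  choose y hy using fun j : Fin l => exteriorPower.map_surjective hπ (x (Finsupp.single j 1))
  let Y : (Fin l →₀ R) →ₗ[R] ⋀[R]^n (M →₀ R) := Finsupp.linearCombination R y
  have hY : (exteriorPower.map n π).comp Y = x :=
    Finsupp.lhom_ext' fun j => LinearMap.ext_ring (by simp [Y, hy])
  have hYf : Y f ∈ wedgeKer n π := ker_map_le n π hπ (by
    rw [LinearMap.mem_ker, ← LinearMap.comp_apply, hY, hx])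
  obtain ⟨T, hT, hTf⟩ := Submodule.mem_span_finite_of_mem_span hYf
  have hTv : ∀ t ∈ T, ∃ v : Fin n → (M →₀ R), (∃ i, π (v i) = 0) ∧ exteriorPower.ιMulti R n v = t :=
    fun t ht => hT ht
  choose tv htv using hTv
  choose tk htk using fun t ht => (htv t ht).1
  have hspan : ∀ j, ∃ S : Finset (Fin n → (M →₀ R)),
      y j ∈ Submodule.span R (exteriorPower.ιMulti R n '' (S : Set (Fin n → (M →₀ R)))) := fun j => by
    have : y j ∈ Submodule.span R (Set.range (exteriorPower.ιMulti R n (M := M →₀ R))) := by
      rw [exteriorPower.ιMulti_span]; trivial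
    obtain ⟨T', hT', hjT'⟩ := Submodule.mem_span_finite_of_mem_span this
    have hT'' : ↑T' ⊆ exteriorPower.ιMulti R n '' (Set.univ : Set (Fin n → (M →₀ R))) := by
      rwa [Set.image_univ]
    obtain ⟨S, -, hS⟩ := Finset.subset_set_image_iff.1 hT''
    exact ⟨S, Submodule.span_mono (by rw [← hS]; simp) hjT'⟩
  choose S hS using hspan
  let s : Finset M := (T.attach.biUnion fun t => Finset.univ.biUnion fun i => (tv t.1 t.2 i).support) ∪
    Finset.univ.biUnion fun j => (S j).biUnion fun v => Finset.univ.biUnion fun i => (v i).support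
  let K : T → ((s : Set M) →₀ R) := fun t =>
    Finsupp.subtypeDomain (fun m => m ∈ (s : Set M)) (tv t.1 t.2 (tk t.1 t.2))
  let i₀ : ((s : Set M) →₀ R) →ₗ[R] (M →₀ R) := Finsupp.lmapDomain R R Subtype.val
  have hi₀ : ∀ w : M →₀ R, w.support ⊆ s →
      i₀ (Finsupp.subtypeDomain (fun m => m ∈ (s : Set M)) w) = w := fun w hw => by
    ext m
    by_cases hm : m ∈ s
    · exact (Finsupp.mapDomain_apply Subtype.val_injective _ (⟨m, hm⟩ : (s : Set M))).trans
        (Finsupp.subtypeDomain_apply)
    · have h1 : w m = 0 := Finsupp.notMem_support_iff.1 fun h => hm (hw h)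
      rw [h1]
      exact Finsupp.mapDomain_notin_range _ _ fun ⟨a, ha⟩ => hm (ha ▸ a.2)
  haveI : Fintype ↥(s : Set M) := inferInstanceAs (Fintype {m // m ∈ s})
  obtain ⟨k, a, b, hab, haK⟩ := Module.Flat.exists_factorization_of_comp_eq_zero_of_free
    (f := Finsupp.linearCombination R K) (x := π.comp i₀) (by
      refine Finsupp.lhom_ext' fun t => LinearMap.ext_ring ?_
      have hsup : (tv t.1 t.2 (tk t.1 t.2)).support ⊆ s := fun m hm =>
        Finset.mem_union_left _ (Finset.mem_biUnion.2 ⟨t, Finset.mem_attach _ _,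
          Finset.mem_biUnion.2 ⟨tk t.1 t.2, Finset.mem_univ _, hm⟩⟩)
      simp [K, hi₀ _ hsup, htk t.1 t.2])
  let Θ : (M →₀ R) →ₗ[R] (Fin k →₀ R) :=
    Finsupp.linearCombination R fun m => if hm : m ∈ (s : Set M) then a (Finsupp.single ⟨m, hm⟩ 1) else 0
  have hΘ : Θ.comp i₀ = a := Finsupp.lhom_ext' fun m => LinearMap.ext_ring (by simp [Θ, i₀])
  have hbΘ : ∀ w : M →₀ R, w.support ⊆ s → b (Θ w) = π w := fun w hw => by
    conv_rhs => rw [← hi₀ w hw]
    conv_lhs => rw [← hi₀ w hw]
    rw [show Θ (i₀ _) = a _ from LinearMap.congr_fun hΘ _, ← LinearMap.comp_apply b a, ← hab]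
    rfl
  have hΘK : ∀ t : T, Θ (tv t.1 t.2 (tk t.1 t.2)) = 0 := fun t => by
    have hsup : (tv t.1 t.2 (tk t.1 t.2)).support ⊆ s := fun m hm =>
      Finset.mem_union_left _ (Finset.mem_biUnion.2 ⟨t, Finset.mem_attach _ _,
        Finset.mem_biUnion.2 ⟨tk t.1 t.2, Finset.mem_univ _, hm⟩⟩)
    rw [← hi₀ _ hsup, show Θ (i₀ _) = a _ from LinearMap.congr_fun hΘ _]
    have := LinearMap.congr_fun haK (Finsupp.single t 1)
    simpa [K] using this
  let A : (Fin l →₀ R) →ₗ[R] ⋀[R]^n (Fin k →₀ R) := (exteriorPower.map n Θ).comp Y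
  have hAf : A f = 0 := by
    have hle : Submodule.span R (T : Set (⋀[R]^n (M →₀ R))) ≤ LinearMap.ker (exteriorPower.map n Θ) := by
      refine Submodule.span_le.2 fun t ht => ?_
      rw [SetLike.mem_coe, LinearMap.mem_ker, ← (htv t ht).2, exteriorPower.map_apply_ιMulti]
      exact (exteriorPower.ιMulti R n).map_coord_zero (tk t ht) (hΘK ⟨t, ht⟩)
    exact hle hTf
  have hbA : (exteriorPower.map n b).comp A = x := by
    refine Finsupp.lhom_ext' fun j => LinearMap.ext_ring ?_
    have hle : ∀ w ∈ Submodule.span R (exteriorPower.ιMulti R n '' (S j : Set (Fin n → (M →₀ R)))),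
        exteriorPower.map n b (exteriorPower.map n Θ w) = exteriorPower.map n π w := fun w hw => by
      refine LinearMap.eqOn_span (f := (exteriorPower.map n b).comp (exteriorPower.map n Θ)) ?_ hw
      rintro _ ⟨v, hv, rfl⟩
      simp only [LinearMap.comp_apply, exteriorPower.map_apply_ιMulti]
      congr 1
      funext i
      exact hbΘ _ fun m hm => Finset.mem_union_right _ (Finset.mem_biUnion.2 ⟨j, Finset.mem_univ _,
        Finset.mem_biUnion.2 ⟨v, hv, Finset.mem_biUnion.2 ⟨i, Finset.mem_univ _, hm⟩⟩⟩)
    simpa [A, Y, hy j] using hle _ (hS j)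
  let B := (Finsupp.basisSingleOne (R := R) (ι := Fin k)).exteriorPower n
  haveI : Module.Free R (⋀[R]^n (Fin k →₀ R)) := Module.Free.of_basis B
  obtain ⟨k', a', b', hab', haf'⟩ :=
    Module.Flat.exists_factorization_of_apply_eq_zero_of_free (f := f) (x := A) hAf
  exact ⟨k', a', (exteriorPower.map n b).comp b', by rw [LinearMap.comp_assoc, ← hab', hbA], haf'⟩

end Groth.Agent.KaehlerFlat27
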