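import Groth.Agent.S0595
import Groth.Agent.S2672
import Groth.Agent.Lib.CIUnmixed6.Basic
import Groth.Prelude.Def_Found
import Mathlib.RingTheory.Smooth.Kaehler
import Mathlib.RingTheory.Kaehler.Basic
import Mathlib.RingTheory.Flat.EquationalCriterion
import Mathlib.FieldTheory.Perfect
import Mathlib.Algebra.CharP.Algebra
import Mathlib.Algebra.Field.ULift

/-!
# Absolute differentials of a regular local ring of characteristic `p` are flat
-/

universe u

namespace Groth.Agent.KaehlerFlat27

open TensorProduct KaehlerDifferential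

theorem isGeometricallyRegular_of_perfect (k : Type u) [Field k] [PerfectField k] (S : Type u) [CommRing S]
    [Algebra k S] [IsRegularRing S] : CAlg.IsGeometricallyRegular k S := by
  refine (Groth.Agent.S2672.result k S).1.2 fun k' _ _ hfin _ => ?_
  haveI := hfin
  haveI : Algebra.IsSeparable k k' := inferInstance
  let e : k ≃ₐ[k] k' := AlgEquiv.ofBijective (Algebra.ofId k k')
    ⟨(algebraMap k k').injective, IsPurelyInseparable.surjective_algebraMap_of_isSeparable k k'⟩
  exact IsRegularRing.of_ringEquiv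
    (((Algebra.TensorProduct.lid k S).symm.trans
      (Algebra.TensorProduct.congr e AlgEquiv.refl)).toRingEquiv)

theorem isRegularHom_of_finite (k : Type u) [Field k] [Finite k] (S : Type u) [CommRing S]
    [Algebra k S] [IsRegularRing S] : CAlg.IsRegularHom k S := by
  refine ⟨inferInstance, fun q hq => ?_⟩
  have hq0 : q = ⊥ := (Ideal.eq_bot_or_top q).resolve_right hq.ne_top
  subst hq0
  haveI : (⊥ : Ideal k).IsMaximal := Ideal.bot_isMaximal
  have hb : Function.Bijective (algebraMap k (⊥ : Ideal k).ResidueField) :=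
    ⟨(algebraMap k _).injective, by
      rw [IsScalarTower.algebraMap_eq k (k ⧸ (⊥ : Ideal k))]
      exact (Ideal.bijective_algebraMap_quotient_residueField _).surjective.comp Ideal.Quotient.mk_surjective⟩
  let e : k ≃ₐ[k] (⊥ : Ideal k).ResidueField := AlgEquiv.ofBijective (Algebra.ofId k _) hb
  haveI : IsRegularRing ((⊥ : Ideal k).Fiber S) := IsRegularRing.of_ringEquiv
    (((Algebra.TensorProduct.lid k S).symm.trans
      (Algebra.TensorProduct.congr e AlgEquiv.refl)).toRingEquiv)
  haveI : Finite (⊥ : Ideal k).ResidueField := Finite.of_surjective _ hb.2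
  haveI : PerfectField (⊥ : Ideal k).ResidueField := PerfectField.ofFinite
  exact ⟨inferInstance, isGeometricallyRegular_of_perfect _ _⟩

theorem map_bijective_of_surjective (k S : Type u) [CommRing k] [CommRing S] [Algebra k S]
    (h : Function.Surjective (algebraMap ℤ k)) :
    Function.Bijective (KaehlerDifferential.map ℤ k S S) := by
  refine ⟨?_, KaehlerDifferential.map_surjective ℤ k S⟩
  haveI : Algebra.FormallyUnramified ℤ k :=
    Algebra.FormallyUnramified.of_surjective (Algebra.ofId ℤ k) h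
  intro a b hab
  rw [← sub_eq_zero] at hab ⊢
  rw [← map_sub] at hab
  obtain ⟨z, hz⟩ := (KaehlerDifferential.exact_mapBaseChange_map ℤ k S _).1 hab
  rw [← hz, Subsingleton.elim z 0, map_zero]

variable (A : Type u) [CommRing A]

/-- Every finitely generated subalgebra factors through an algebra with projective differentials. -/
def HasProjectiveFactorization : Prop :=
  ∀ s : Finset A, ∃ (C : Subring A), (↑s : Set A) ⊆ C ∧ ∃ (S : Type u) (_ : CommRing S) (h : S →+* A)
    (σ : C →+* S), h.comp σ = C.subtype ∧ Module.Projective S Ω[S⁄ℤ]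

theorem flat_kaehler_of_factorization (hA : HasProjectiveFactorization A) : Module.Flat A Ω[A⁄ℤ] := by
  classical
  refine Module.Flat.of_forall_exists_factorization fun {l f x} hx => ?_
  choose w hw using fun j : Fin l => KaehlerDifferential.linearCombination_surjective ℤ A (x (Finsupp.single j 1))
  let W : (Fin l →₀ A) →ₗ[A] (A →₀ A) := Finsupp.linearCombination A w
  have hW : (Finsupp.linearCombination A (D ℤ A)).comp W = x :=
    Finsupp.lhom_ext' fun j => LinearMap.ext_ring (by simp [W, hw])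
  have hWf : W f ∈ kerTotal ℤ A := by
    rw [← KaehlerDifferential.kerTotal_eq, LinearMap.mem_ker, ← LinearMap.comp_apply, hW, hx]
  obtain ⟨T, hT, hTf⟩ := Submodule.mem_span_finite_of_mem_span hWf
  have hT' : ∀ t ∈ T, (∃ a b : A, Finsupp.single a 1 + Finsupp.single b 1 - Finsupp.single (a + b) 1 = t) ∨
      (∃ a b : A, Finsupp.single b a + Finsupp.single a b - Finsupp.single (a * b) 1 = t) ∨
      (∃ m : ℤ, Finsupp.single (algebraMap ℤ A m) 1 = t) := fun t ht => by
    rcases hT ht with (⟨⟨a, b⟩, hab⟩ | ⟨⟨a, b⟩, hab⟩) | ⟨m, hm⟩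
    · exact Or.inl ⟨a, b, hab⟩
    · exact Or.inr (Or.inl ⟨a, b, hab⟩)
    · exact Or.inr (Or.inr ⟨m, hm⟩)
  have hgen : ∀ t ∈ T, ∃ G : Finset A, ∀ (N : Type u) [AddCommGroup N] [Module A N] (g : A → N) (C : Subring A),
      (↑G : Set A) ⊆ C → (∀ a ∈ C, ∀ b ∈ C, g (a + b) = g a + g b ∧ g (a * b) = a • g b + b • g a) →
      (∀ m : ℤ, g (m : A) = 0) → Finsupp.linearCombination A g t = 0 := fun t ht => by
    rcases hT' t ht with ⟨a, b, rfl⟩ | ⟨a, b, rfl⟩ | ⟨m, rfl⟩
    · refine ⟨{a, b}, fun N _ _ g C hG hd _ => ?_⟩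
      simp [(hd a (hG (by simp)) b (hG (by simp))).1]
    · refine ⟨{a, b}, fun N _ _ g C hG hd _ => ?_⟩
      simp [(hd a (hG (by simp)) b (hG (by simp))).2]
    · exact ⟨∅, fun N _ _ g C _ _ hz => by simp [hz]⟩
  choose G hG using hgen
  let s : Finset A := (T.attach.biUnion fun t => G t.1 t.2) ∪ Finset.univ.biUnion fun j => (w j).support
  obtain ⟨C, hsC, S, _, h, σ, hσ, hproj⟩ := hA s
  letI := h.toAlgebra
  let g : A → A ⊗[S] Ω[S⁄ℤ] := fun a => if ha : a ∈ C then 1 ⊗ₜ D ℤ S (σ ⟨a, ha⟩) else 0
  have hs : ∀ a (ha : a ∈ C), algebraMap S A (σ ⟨a, ha⟩) = a := fun a ha =>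
    RingHom.congr_fun hσ ⟨a, ha⟩
  have hd : ∀ a ∈ C, ∀ b ∈ C, g (a + b) = g a + g b ∧ g (a * b) = a • g b + b • g a := fun a ha b hb => by
    refine ⟨?_, ?_⟩
    · simp only [g, dif_pos ha, dif_pos hb, dif_pos (C.add_mem ha hb)]
      rw [← TensorProduct.tmul_add, ← map_add, ← map_add σ]
      rfl
    · simp only [g, dif_pos ha, dif_pos hb, dif_pos (C.mul_mem ha hb)]
      rw [show (⟨a * b, C.mul_mem ha hb⟩ : C) = ⟨a, ha⟩ * ⟨b, hb⟩ from rfl, map_mul, Derivation.leibniz,
        TensorProduct.tmul_add, TensorProduct.tmul_smul, TensorProduct.tmul_smul]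
      congr 1
      · rw [← algebraMap_smul A (σ ⟨a, ha⟩), hs]
      · rw [← algebraMap_smul A (σ ⟨b, hb⟩), hs]
  have hz : ∀ m : ℤ, g (m : A) = 0 := fun m => by
    have hm : (m : A) ∈ C := intCast_mem C m
    simp only [g, dif_pos hm]
    rw [show (⟨(m : A), hm⟩ : C) = (m : C) from rfl, map_intCast, Derivation.map_intCast, TensorProduct.tmul_zero]
  let L : (A →₀ A) →ₗ[A] A ⊗[S] Ω[S⁄ℤ] := Finsupp.linearCombination A g
  have hAf : (L.comp W) f = 0 := by
    have hle : Submodule.span A (T : Set (A →₀ A)) ≤ LinearMap.ker L := Submodule.span_le.2 fun t ht =>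
      hG t ht _ g C (fun a ha => hsC (Finset.mem_union_left _
        (Finset.mem_biUnion.2 ⟨⟨t, ht⟩, Finset.mem_attach _ _, ha⟩))) hd hz
    exact hle hTf
  have hbA : (mapBaseChange ℤ S A).comp (L.comp W) = x := by
    refine Finsupp.lhom_ext' fun j => LinearMap.ext_ring ?_
    have : mapBaseChange ℤ S A (L (w j)) = Finsupp.linearCombination A (D ℤ A) (w j) := by
      simp only [L, Finsupp.linearCombination_apply, Finsupp.sum, map_sum, map_smul]
      refine Finset.sum_congr rfl fun a ha => ?_
      have haC : a ∈ C := hsC (Finset.mem_union_right _ (Finset.mem_biUnion.2 ⟨j, Finset.mem_univ _, ha⟩))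
      simp [g, dif_pos haC, hs a haC]
    simpa [W, hw j] using this
  haveI := hproj
  obtain ⟨k, a, b, hab, haf⟩ :=
    Module.Flat.exists_factorization_of_apply_eq_zero_of_free (f := f) (x := L.comp W) hAf
  exact ⟨k, a, (mapBaseChange ℤ S A).comp b, by rw [LinearMap.comp_assoc, ← hab, hbA], haf⟩

theorem hasProjectiveFactorization (p : ℕ) [Fact p.Prime] [IsNoetherianRing A] [IsRegularRing A] [CharP A p] :
    HasProjectiveFactorization A := by
  intro s
  let k : Type u := ULift.{u} (ZMod p)
  letI : Algebra k A := ((ZMod.castHom dvd_rfl A).comp ULift.ringEquiv.toRingHom).toAlgebra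
  haveI : Finite k := Finite.of_equiv _ Equiv.ulift.symm
  have hsurj : Function.Surjective (algebraMap ℤ k) := fun x => by
    obtain ⟨m, hm⟩ := ZMod.intCast_surjective x.down
    exact ⟨m, by rw [eq_intCast]; exact ULift.ext _ _ hm⟩
  let C := Algebra.adjoin k (↑s : Set A)
  haveI : Algebra.FiniteType k C := C.fg_iff_finiteType.1 (Subalgebra.fg_adjoin_finset s)
  haveI : Algebra.FinitePresentation k C := (Algebra.FinitePresentation.of_finiteType (R := k)).1 inferInstance
  obtain ⟨S, _, _, hsm, g, h, hgh⟩ :=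
    Groth.Agent.S0595.result k A (isRegularHom_of_finite k A) C C.val
  refine ⟨C.toSubring, Algebra.subset_adjoin, S, inferInstance, h.toRingHom, g.toRingHom,
    RingHom.ext fun c => AlgHom.congr_fun hgh c, ?_⟩
  haveI : Algebra.FormallySmooth k S := hsm.formallySmooth
  haveI : Module.Projective S Ω[S⁄k] := Algebra.FormallySmooth.projective_kaehlerDifferential
  exact Module.Projective.of_equiv
    (LinearEquiv.ofBijective _ (map_bijective_of_surjective k S hsurj)).symm

theorem flat_kaehler (p : ℕ) [Fact p.Prime] [IsRegularLocalRing A] [CharP A p] :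
    Module.Flat A Ω[A⁄ℤ] := by
  haveI := Groth.Agent.CIUnmixed6.isRegularRing_of_local A
  exact flat_kaehler_of_factorization A (hasProjectiveFactorization A p)

end Groth.Agent.KaehlerFlat27
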